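import Mathlib.AlgebraicGeometry.Morphisms.QuasiFinite
import Mathlib.AlgebraicGeometry.Morphisms.UniversallyOpen
import Mathlib.Topology.Sober

/-!
# Generic points along flat quasi-finite morphisms
-/

set_option autoImplicit false

universe u

open CategoryTheory AlgebraicGeometry

namespace Groth.Agent.FlatQF5

variable {X Y : Scheme.{u}} (f : X ⟶ Y)

theorem eq_of_specializes [LocallyQuasiFinite f] {a b : X} (h : a ⤳ b) (hf : f a = f b) : a = b := by
  haveI : DiscreteTopology ↥(f ⁻¹' {f b}) := isDiscrete_iff_discreteTopology.1 (f.isDiscrete_preimage_singleton (f b))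
  have h' : (⟨a, hf⟩ : ↥(f ⁻¹' {f b})) ⤳ ⟨b, rfl⟩ := (subtype_specializes_iff _ _).2 h
  exact congrArg Subtype.val h'.eq

theorem mem_genericPoints_iff {Z : Type*} [TopologicalSpace Z] [T0Space Z] [QuasiSober Z] (z : Z) :
    z ∈ genericPoints Z ↔ ∀ w, w ⤳ z → w = z := by
  constructor
  · intro hz w hw
    have hle : closure {z} ⊆ closure {w} :=
      closure_minimal (Set.singleton_subset_iff.2 (specializes_iff_mem_closure.1 hw)) isClosed_closure
    have heq : closure {w} ⊆ closure {z} := hz.2 (isIrreducible_singleton.closure) hle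
    exact (hw.antisymm (specializes_iff_mem_closure.2 (heq (subset_closure rfl)))).eq
  · intro hz
    refine ⟨isIrreducible_singleton.closure, fun T hT hle => ?_⟩
    obtain ⟨w, hw⟩ := QuasiSober.sober hT.closure isClosed_closure
    have hwz : w ⤳ z := hw.specializes (subset_closure (hle (subset_closure rfl)))
    rw [← hz w hwz]
    exact subset_closure.trans_eq hw.symm

theorem map_mem_genericPoints [Flat f] {x : X} (hx : x ∈ genericPoints X) : f x ∈ genericPoints Y := by
  rw [mem_genericPoints_iff] at hx ⊢
  intro w hw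
  obtain ⟨x', hx', rfl⟩ := Flat.generalizingMap f hw
  rw [hx x' hx']

theorem mem_genericPoints_of_map [LocallyQuasiFinite f] {x : X} (hx : f x ∈ genericPoints Y) :
    x ∈ genericPoints X := by
  rw [mem_genericPoints_iff] at hx ⊢
  exact fun w hw => eq_of_specializes f hw (hx _ (hw.map f.continuous))

end Groth.Agent.FlatQF5
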